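import Cfsg.Agent.H3.Isotropic
import Cfsg.Agent.H8.U62.Data

/-!
# Packed arithmetic over a field with nine elements, and the check on lines

An element `a + b * im` is the number `a + 3 * b`; a vector of length four is written in base nine.
-/

set_option autoImplicit false

namespace Cfsg.Agent.H8.U62

open Matrix

/-- Addition. -/
def add9 (x y : ℕ) : ℕ := (x % 3 + y % 3) % 3 + 3 * ((x / 3 + y / 3) % 3)

/-- Multiplication. -/
def mul9 (x y : ℕ) : ℕ :=
  ((x % 3) * (y % 3) + 2 * ((x / 3) * (y / 3))) % 3 + 3 * (((x % 3) * (y / 3) + (x / 3) * (y % 3)) % 3)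

/-- The field automorphism of order two. -/
def cnj9 (x : ℕ) : ℕ := x % 3 + 3 * ((2 * (x / 3)) % 3)

/-- A coordinate. -/
def dig9 (v i : ℕ) : ℕ := v / 9 ^ i % 9

/-- A linear combination of two vectors. -/
def comb9 (c d u v : ℕ) : ℕ :=
  add9 (mul9 c (dig9 u 0)) (mul9 d (dig9 v 0)) + 9 * add9 (mul9 c (dig9 u 1)) (mul9 d (dig9 v 1)) +
    81 * add9 (mul9 c (dig9 u 2)) (mul9 d (dig9 v 2)) + 729 * add9 (mul9 c (dig9 u 3)) (mul9 d (dig9 v 3))

/-- The product of a matrix given by columns with a vector. -/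
def mv9 (M : List ℕ) (v : ℕ) : ℕ :=
  comb9 1 1 (comb9 (dig9 v 0) (dig9 v 1) (M.getD 0 0) (M.getD 1 0))
    (comb9 (dig9 v 2) (dig9 v 3) (M.getD 2 0) (M.getD 3 0))

/-- The form. -/
def herm9 (u v : ℕ) : ℕ :=
  add9 (add9 (mul9 (dig9 u 0) (cnj9 (dig9 v 0))) (mul9 (dig9 u 1) (cnj9 (dig9 v 1))))
    (add9 (mul9 (dig9 u 2) (cnj9 (dig9 v 2))) (mul9 (dig9 u 3) (cnj9 (dig9 v 3))))

/-- Determinant of a matrix of order three given by its entries. -/
def det3 (a : ℕ → ℕ → ℕ) : ℕ :=
  add9 (add9 (mul9 (a 0 0) (add9 (mul9 (a 1 1) (a 2 2)) (mul9 2 (mul9 (a 1 2) (a 2 1)))))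
    (mul9 2 (mul9 (a 0 1) (add9 (mul9 (a 1 0) (a 2 2)) (mul9 2 (mul9 (a 1 2) (a 2 0)))))))
    (mul9 (a 0 2) (add9 (mul9 (a 1 0) (a 2 1)) (mul9 2 (mul9 (a 1 1) (a 2 0)))))

/-- An entry of a matrix given by columns. -/
def ent9 (M : List ℕ) (i j : ℕ) : ℕ := dig9 (M.getD j 0) i

/-- Skip an index. -/
def skip9 (k j : ℕ) : ℕ := if j < k then j else j + 1

/-- A minor of the first row. -/
def min9 (M : List ℕ) (k : ℕ) : ℕ := det3 fun i j => ent9 M (i + 1) (skip9 k j)

/-- Determinant of a matrix of order four. -/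
def det4 (M : List ℕ) : ℕ :=
  add9 (add9 (mul9 (ent9 M 0 0) (min9 M 0)) (mul9 2 (mul9 (ent9 M 0 1) (min9 M 1))))
    (add9 (mul9 (ent9 M 0 2) (min9 M 2)) (mul9 2 (mul9 (ent9 M 0 3) (min9 M 3))))

/-- A matrix is special unitary. -/
def su4OK (M : List ℕ) : Bool :=
  ((List.range 4).all fun i => (List.range 4).all fun j =>
    Nat.beq (herm9 (M.getD i 0) (M.getD j 0)) (bif Nat.beq i j then 1 else 0)) && Nat.beq (det4 M) 1

/-- The mask of a span, with a check that the combinations are distinct. -/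
def spanMask (u v : ℕ) : List ℕ → ℕ → ℕ × Bool
  | [], m => (m, true)
  | c :: l, m =>
    match comb9 (c % 9) (c / 9) u v with
    | 0 => (bif m.testBit 0 then (m, false) else spanMask u v l (Nat.lor m 1))
    | k + 1 => (bif m.testBit (k + 1) then (m, false) else spanMask u v l (Nat.lor m (1 <<< (k + 1))))

/-- The lines with number `i` are permuted by the matrices. -/
def linesOK (i : ℕ) : Bool :=
  let L := lineB.getD i []
  let M := uMat.getD i []
  let P := subPerm.getD i []
  ((List.range 4).all fun g => su4OK (M.getD g [])) && Nat.beq L.length 112 &&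
  (List.range 112).all fun k =>
    match spanMask (L.getD k (0, 0)).1 (L.getD k (0, 0)).2 (List.range 81) 0 with
    | (m, b) =>
      b && ((List.range 112).all fun j => Nat.beq j k ||
        !(m.testBit (L.getD j (0, 0)).1 && m.testBit (L.getD j (0, 0)).2)) &&
      (List.range 4).all fun g => (List.range 112).all fun j =>
        !(Nat.beq ((P.getD g []).getD j 112) k) ||
          (m.testBit (mv9 (M.getD g []) (L.getD j (0, 0)).1) && m.testBit (mv9 (M.getD g []) (L.getD j (0, 0)).2))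

theorem lines_ok0 : linesOK 0 = true := by decide +kernel

theorem lines_ok1 : linesOK 1 = true := by decide +kernel

theorem lines_ok2 : linesOK 2 = true := by decide +kernel

end Cfsg.Agent.H8.U62
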